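import Groth.Agent.EGA43.FibDepth.FibreDim
import Groth.Agent.FlatMorDim.DimEq

/-!
# Transcendence degree of residue fields over algebras generated by given elements
-/

set_option autoImplicit false
set_option linter.style.haveILetI false
set_option backward.isDefEq.respectTransparency false
set_option maxHeartbeats 1000000

universe u

open IntermediateField

namespace Groth.Agent.FlatMorPower

section field

variable {k L : Type u} [Field k] [Field L] [Algebra k L] [Algebra.EssFiniteType k L]

/-- `trdeg` over an intermediate field, as a natural number. -/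
noncomputable def T (E : IntermediateField k L) : ℕ := (Algebra.trdeg E L).toNat

theorem toNat_trdeg_add (E : IntermediateField k L) :
    (Algebra.trdeg k L).toNat = (Algebra.trdeg k E).toNat + T E := by
  have h1 := (Groth.Agent.FlatMorDim.DimEq.trdeg_lt_of_essFiniteType (k := k) (L := L)).1
  have h2 := trdeg_add_eq k E (A := L)
  rw [← h2] at h1
  rw [← h2, T, Cardinal.toNat_add ((le_self_add).trans_lt h1) ((le_add_self).trans_lt h1)]

theorem T_le (E : IntermediateField k L) : T E ≤ (Algebra.trdeg k L).toNat := by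
  rw [toNat_trdeg_add E]; exact Nat.le_add_left _ _

theorem trdeg_adjoin_simple_le (t : L) : Algebra.trdeg k k⟮t⟯ ≤ 1 := by
  open scoped IntermediateField.algebraAdjoinAdjoin in
  haveI : Algebra.IsAlgebraic (Algebra.adjoin k ({t} : Set L)) k⟮t⟯ :=
    IsLocalization.isAlgebraic _ (nonZeroDivisors (Algebra.adjoin k ({t} : Set L)))
  have h2 := trdeg_add_eq k (Algebra.adjoin k ({t} : Set L)) (A := k⟮t⟯)
  rw [trdeg_eq_zero (R := Algebra.adjoin k ({t} : Set L)), add_zero] at h2
  rw [← h2]
  let π : Polynomial k →ₐ[k] Algebra.adjoin k ({t} : Set L) :=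
    Polynomial.aeval ⟨t, Algebra.subset_adjoin rfl⟩
  have hπ : Function.Surjective π := fun z => by
    obtain ⟨p, hp⟩ : z.1 ∈ (Polynomial.aeval (R := k) t).range := by
      rw [← Algebra.adjoin_singleton_eq_range_aeval]; exact z.2
    refine ⟨p, Subtype.ext ?_⟩
    rw [← hp]
    exact (Polynomial.aeval_algHom_apply (Algebra.adjoin k ({t} : Set L)).val _ p).symm
  exact (trdeg_le_of_surjective π hπ).trans_eq Polynomial.trdeg_of_isDomain

theorem toNat_le_T_add_one (t : L) : (Algebra.trdeg k L).toNat ≤ T k⟮t⟯ + 1 := by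
  rw [toNat_trdeg_add k⟮t⟯, add_comm]
  gcongr
  simpa using Cardinal.toNat_le_toNat (trdeg_adjoin_simple_le (k := k) t) Cardinal.one_lt_aleph0

theorem T_of_isAlgebraic {t : L} (ht : IsAlgebraic k t) : T k⟮t⟯ = (Algebra.trdeg k L).toNat := by
  haveI := isAlgebraic_adjoin_simple ht.isIntegral
  rw [toNat_trdeg_add k⟮t⟯, trdeg_eq_zero (R := k) (A := k⟮t⟯)]
  simp

theorem T_add_one_le {t : L} (ht : Transcendental k t) : T k⟮t⟯ + 1 ≤ (Algebra.trdeg k L).toNat := by
  rw [toNat_trdeg_add k⟮t⟯, add_comm]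
  gcongr
  have h : Algebra.Transcendental k k⟮t⟯ := ⟨⟨AdjoinSimple.gen k t, fun h => ht (by
    simpa using h.algHom k⟮t⟯.val)⟩⟩
  have h1 := trdeg_pos (R := k) (A := k⟮t⟯)
  have h2 : Algebra.trdeg k k⟮t⟯ < Cardinal.aleph0 :=
    (trdeg_adjoin_simple_le (k := k) t).trans_lt Cardinal.one_lt_aleph0
  obtain ⟨m, hm⟩ := Cardinal.lt_aleph0.1 h2
  rw [hm] at h1 ⊢
  simpa [Nat.one_le_iff_ne_zero, pos_iff_ne_zero] using h1

theorem T_pair_of_isAlgebraic {s t : L} (h : IsAlgebraic k⟮s⟯ t) : T (adjoin k ({s, t} : Set L)) = T k⟮s⟯ := by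
  let E₁ := k⟮s⟯
  let E₂ := adjoin k ({s, t} : Set L)
  have hle : E₁ ≤ E₂ := adjoin.mono k _ _ (Set.singleton_subset_iff.2 (Set.mem_insert _ _))
  letI : Algebra E₁ E₂ := (inclusion hle).toRingHom.toAlgebra
  haveI : IsScalarTower E₁ E₂ L := IsScalarTower.of_algebraMap_eq fun _ => rfl
  have hmem : E₂ ≤ (algebraicClosure E₁ L).restrictScalars k := by
    rw [adjoin_le_iff]
    rintro z (rfl | rfl)
    · exact mem_algebraicClosure_iff.2 (isAlgebraic_algebraMap (⟨z, mem_adjoin_simple_self k z⟩ : E₁))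
    · exact mem_algebraicClosure_iff.2 h
  haveI : Algebra.IsAlgebraic E₁ E₂ := ⟨fun z =>
    (isAlgebraic_algHom_iff (IsScalarTower.toAlgHom E₁ E₂ L) Subtype.val_injective).1
      (mem_algebraicClosure_iff.1 (hmem z.2))⟩
  have h2 := trdeg_add_eq E₁ E₂ (A := L)
  rw [trdeg_eq_zero (R := E₁) (A := E₂), zero_add] at h2
  exact congrArg Cardinal.toNat h2

theorem isAlgebraic_of_add {s t : L} {n : ℕ} (h : IsAlgebraic k (s ^ n + t)) : IsAlgebraic k⟮s⟯ t := by
  have h3 : IsIntegral k⟮s⟯ (s ^ n + t) := h.isIntegral.tower_top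
  have h4 : IsIntegral k⟮s⟯ (s ^ n) :=
    (isIntegral_algebraMap (x := (⟨s, mem_adjoin_simple_self k s⟩ : k⟮s⟯))).pow n
  simpa using (h3.sub h4).isAlgebraic

theorem two_add_T_le {s t : L} (h : AlgebraicIndependent k ![s, t]) :
    2 + T (adjoin k ({s, t} : Set L)) ≤ (Algebra.trdeg k L).toNat := by
  rw [toNat_trdeg_add (adjoin k ({s, t} : Set L))]
  gcongr
  let v : Fin 2 → adjoin k ({s, t} : Set L) :=
    ![⟨s, subset_adjoin k _ (Set.mem_insert _ _)⟩, ⟨t, subset_adjoin k _ (Set.mem_insert_of_mem _ rfl)⟩]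
  have hv : AlgebraicIndependent k v := AlgebraicIndependent.of_comp (adjoin k ({s, t} : Set L)).val (by
    convert h using 1
    funext i
    fin_cases i <;> rfl)
  have h1 := hv.lift_cardinalMk_le_trdeg
  have hfin : Algebra.trdeg k (adjoin k ({s, t} : Set L)) < Cardinal.aleph0 := by
    refine lt_of_le_of_lt ?_ (Groth.Agent.FlatMorDim.DimEq.trdeg_lt_of_essFiniteType (k := k) (L := L)).1
    exact trdeg_le_of_injective (adjoin k ({s, t} : Set L)).val Subtype.val_injective
  obtain ⟨m, hm⟩ := Cardinal.lt_aleph0.1 hfin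
  rw [hm] at h1 ⊢
  simpa using h1

end field

section prime

open EGA43.FibDepth

variable {R S : Type u} [CommRing R] [CommRing S] [Algebra R S] (q : PrimeSpectrum S)

/-- The residue field of the base point. -/
abbrev bot' : Type u := (q.asIdeal.comap (algebraMap R S)).ResidueField

noncomputable instance algebraResidue : Algebra (bot' (R := R) q) q.asIdeal.ResidueField :=
  (Ideal.ResidueField.map (q.asIdeal.comap (algebraMap R S)) q.asIdeal (algebraMap R S) rfl).toAlgebra

instance isScalarTower_residue : IsScalarTower R (bot' (R := R) q) q.asIdeal.ResidueField :=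
  IsScalarTower.of_algebraMap_eq fun r => by
    rw [RingHom.algebraMap_toAlgebra, Ideal.ResidueField.map_algebraMap, IsScalarTower.algebraMap_apply R S]

instance essFiniteType_residue [Algebra.FiniteType R S] :
    Algebra.EssFiniteType (bot' (R := R) q) q.asIdeal.ResidueField := by
  haveI : Algebra.EssFiniteType R q.asIdeal.ResidueField := Algebra.EssFiniteType.comp R S _
  exact Algebra.EssFiniteType.of_comp R _ _

theorem trd_eq : trd R q = (Algebra.trdeg (bot' (R := R) q) q.asIdeal.ResidueField).toNat := by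
  rw [← DimLib.trdegHom_algebraMap]
  rfl

theorem trd_eq_T {B : Type u} [CommRing B] [Algebra R B] [Algebra B S] [IsScalarTower R B S] (G : Set B)
    (hG : Algebra.adjoin R G = ⊤) :
    trd B q = T (adjoin (bot' (R := R) q)
      ((fun b => algebraMap S q.asIdeal.ResidueField (algebraMap B S b)) '' G)) := by
  let k := bot' (R := R) q
  let L := q.asIdeal.ResidueField
  let g : B →ₐ[R] L := (IsScalarTower.toAlgHom R S L).comp (IsScalarTower.toAlgHom R B S)
  let E := adjoin k (g '' G)
  show trd B q = T E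
  let P := q.asIdeal.comap (algebraMap B S)
  let φ : P.ResidueField →+* L := Ideal.ResidueField.map P q.asIdeal (algebraMap B S) rfl
  have hφ : ∀ b, φ (algebraMap B P.ResidueField b) = g b := fun b => Ideal.ResidueField.map_algebraMap _ _ _ _ _
  have hgE : ∀ b, g b ∈ E := fun b => by
    have : g b ∈ (Algebra.adjoin R G).map g := ⟨b, by rw [hG]; exact Algebra.mem_top, rfl⟩
    rw [AlgHom.map_adjoin] at this
    exact (Algebra.adjoin_le (S := E.toSubalgebra.restrictScalars R) (subset_adjoin k _) :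
      Algebra.adjoin R (g '' G) ≤ _) this
  have hφE : ∀ z, φ z ∈ E := fun z => by
    obtain ⟨b, c, -, rfl⟩ := IsFractionRing.div_surjective (B ⧸ P) z
    obtain ⟨b, rfl⟩ := Ideal.Quotient.mk_surjective b
    obtain ⟨c, rfl⟩ := Ideal.Quotient.mk_surjective c
    rw [map_div₀]
    exact div_mem (by rw [show φ (algebraMap (B ⧸ P) _ (Ideal.Quotient.mk P b)) = g b from hφ b]; exact hgE b)
      (by rw [show φ (algebraMap (B ⧸ P) _ (Ideal.Quotient.mk P c)) = g c from hφ c]; exact hgE c)
  have hR : ∀ r : R, algebraMap R L r ∈ φ.fieldRange := fun r =>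
    ⟨algebraMap B P.ResidueField (algebraMap R B r), by rw [hφ, g.commutes]⟩
  have hkE : ∀ z : k, algebraMap k L z ∈ φ.fieldRange := fun z => by
    obtain ⟨b, c, -, rfl⟩ := IsFractionRing.div_surjective (R ⧸ q.asIdeal.comap (algebraMap R S)) z
    obtain ⟨b, rfl⟩ := Ideal.Quotient.mk_surjective b
    obtain ⟨c, rfl⟩ := Ideal.Quotient.mk_surjective c
    rw [map_div₀]
    refine div_mem ?_ ?_
    · exact (IsScalarTower.algebraMap_apply R k L b) ▸ hR b
    · exact (IsScalarTower.algebraMap_apply R k L c) ▸ hR c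
  let F : IntermediateField k L := { φ.fieldRange with algebraMap_mem' := hkE }
  have hEF : E ≤ F := by
    rw [adjoin_le_iff]
    rintro _ ⟨b, -, rfl⟩
    exact ⟨algebraMap B P.ResidueField b, hφ b⟩
  let e : P.ResidueField →+* E := φ.codRestrict E.toSubfield.toSubring hφE
  have he : Function.Surjective e := fun ⟨z, hz⟩ => by
    obtain ⟨w, hw⟩ := hEF hz
    exact ⟨w, Subtype.ext hw⟩
  letI : Algebra P.ResidueField E := e.toAlgebra
  letI : Algebra P.ResidueField L := φ.toAlgebra
  haveI : IsScalarTower P.ResidueField E L := IsScalarTower.of_algebraMap_eq fun _ => rfl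
  haveI : Algebra.IsAlgebraic P.ResidueField E := ⟨fun z => by
    obtain ⟨w, rfl⟩ := he z
    exact isAlgebraic_algebraMap w⟩
  have h2 := trdeg_add_eq P.ResidueField E (A := L)
  rw [trdeg_eq_zero (R := P.ResidueField) (A := E), zero_add] at h2
  show DimLib.trdegHom φ = T E
  exact congrArg Cardinal.toNat h2.symm

end prime

end Groth.Agent.FlatMorPower
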