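import Mathlib

/-!
# A polynomial relation bounds the exponent
-/

set_option autoImplicit false

universe u

open Polynomial IntermediateField

namespace Groth.Agent.FlatMorPower

theorem exponent_le {k L : Type u} [Field k] [Field L] [Algebra k L] {A B : L} (hA : Transcendental k A)
    {n : ℕ} (hγ : IsAlgebraic k (A ^ n + B)) (F : MvPolynomial (Fin 2) k) (hF : F ≠ 0)
    (h0 : MvPolynomial.aeval ![A, B] F = 0) : n ≤ F.totalDegree := by
  by_contra hn
  push Not at hn
  let E := k⟮A ^ n + B⟯
  let γ : E := AdjoinSimple.gen k (A ^ n + B)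
  haveI : Algebra.IsAlgebraic k E := isAlgebraic_adjoin_simple hγ.isIntegral
  have hA' : Transcendental E A := fun h => hA (h.restrictScalars k)
  let H : Polynomial E := MvPolynomial.aeval ![(Polynomial.X : Polynomial E), C γ - Polynomial.X ^ n] F
  have hH : Polynomial.aeval A H = 0 := by
    rw [show Polynomial.aeval A H = ((Polynomial.aeval (R := E) A).restrictScalars k) H from rfl]
    show ((Polynomial.aeval (R := E) A).restrictScalars k) (MvPolynomial.aeval _ F) = 0
    rw [← AlgHom.comp_apply, MvPolynomial.comp_aeval]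
    rw [← h0]
    congr 2
    funext i
    fin_cases i <;> simp [γ]
  have hH0 : H = 0 := by
    by_contra h
    exact hA' ⟨H, h, hH⟩
  obtain ⟨s₀, hs₀, hmax⟩ := F.support.exists_max_image (fun s => s 0 + n * s 1) (MvPolynomial.support_nonempty.2 hF)
  have hlt : ∀ s ∈ F.support, s 0 < n := fun s hs => by
    have h1 : s 0 ≤ F.totalDegree := by
      refine le_trans ?_ (MvPolynomial.le_totalDegree hs)
      rw [Finsupp.sum_fintype _ _ (fun _ => rfl), Fin.sum_univ_two]
      exact Nat.le_add_right _ _
    omega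
  have hterm : ∀ s : Fin 2 →₀ ℕ, MvPolynomial.aeval ![(Polynomial.X : Polynomial E), C γ - Polynomial.X ^ n]
      (MvPolynomial.monomial s (F.coeff s)) =
      C (algebraMap k E (F.coeff s)) * (Polynomial.X ^ s 0 * (C γ - Polynomial.X ^ n) ^ s 1) := fun s => by
    rw [MvPolynomial.aeval_monomial, Finsupp.prod_fintype _ _ (fun _ => pow_zero _), Fin.prod_univ_two]
    simp [IsScalarTower.algebraMap_apply k E (Polynomial E), Polynomial.algebraMap_eq]
  have hnat : ∀ j : ℕ, (((C γ - Polynomial.X ^ n) ^ j : Polynomial E)).natDegree ≤ n * j := fun j => by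
    refine natDegree_pow_le.trans ?_
    rw [mul_comm]
    refine Nat.mul_le_mul_right _ ((natDegree_sub_le _ _).trans ?_)
    simp
  have hcoef : H.coeff (s₀ 0 + n * s₀ 1) = algebraMap k E (F.coeff s₀) * (-1) ^ s₀ 1 := by
    show (MvPolynomial.aeval ![(Polynomial.X : Polynomial E), C γ - Polynomial.X ^ n] F).coeff _ = _
    conv_lhs => rw [F.as_sum, map_sum, finset_sum_coeff]
    rw [Finset.sum_eq_single_of_mem s₀ hs₀ fun s hs hne => ?_]
    · rw [hterm, coeff_C_mul]
      congr 1
      rw [show s₀ 0 + n * s₀ 1 = n * s₀ 1 + s₀ 0 from add_comm _ _, coeff_X_pow_mul]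
      have h1 : (C γ - Polynomial.X ^ n : Polynomial E).natDegree ≤ n :=
        (natDegree_sub_le _ _).trans (by simp)
      rw [mul_comm n, coeff_pow_of_natDegree_le h1]
      have hn0 : n ≠ 0 := fun h => by omega
      simp [coeff_C, hn0]
    · rw [hterm, coeff_C_mul]
      refine mul_eq_zero_of_right _ ?_
      apply coeff_eq_zero_of_natDegree_lt
      refine lt_of_le_of_lt (natDegree_mul_le.trans (Nat.add_le_add (natDegree_X_pow_le _) (hnat _))) ?_
      refine lt_of_le_of_ne (hmax s hs) fun he => hne ?_
      have a1 := hlt s hs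
      have a2 := hlt s₀ hs₀
      have e0 : s 0 = s₀ 0 := by
        have := congrArg (· % n) he
        simpa [Nat.add_mul_mod_self_left, Nat.mod_eq_of_lt a1, Nat.mod_eq_of_lt a2] using this
      have e1 : s 1 = s₀ 1 := by
        rw [e0] at he
        exact Nat.eq_of_mul_eq_mul_left (by omega) (Nat.add_left_cancel he)
      exact Finsupp.ext fun i => by fin_cases i <;> assumption
  rw [hH0, coeff_zero] at hcoef
  have hc : algebraMap k E (F.coeff s₀) ≠ 0 := by
    rw [_root_.map_ne_zero]; exact MvPolynomial.mem_support_iff.1 hs₀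
  exact mul_ne_zero hc (pow_ne_zero _ (neg_ne_zero.2 one_ne_zero)) hcoef.symm

end Groth.Agent.FlatMorPower
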