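import Groth.Agent.FlatMorPower.Field
import Groth.Agent.FlatMorPower.Poly
import Groth.Agent.FlatMorDim.Valuation
import Mathlib

/-!
# The fibre dimension of `x ↦ a ^ n + b` for large `n`
-/

set_option autoImplicit false
set_option linter.style.haveILetI false
set_option backward.isDefEq.respectTransparency false
set_option maxHeartbeats 1000000

universe u

open IntermediateField Polynomial Groth.Agent.EGA43.FibDepth Topology

namespace Groth.Agent.FlatMorPower

variable {R S : Type u} [CommRing R] [CommRing S] [Algebra R S]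

local notation "kk" q => bot' (R := R) q

theorem trd_aeval (a : S) (q : PrimeSpectrum S) :
    (letI := (Polynomial.aeval (R := R) a).toRingHom.toAlgebra; trd R[X] q) =
      T ((bot' (R := R) q)⟮algebraMap S q.asIdeal.ResidueField a⟯) := by
  letI := (Polynomial.aeval (R := R) a).toRingHom.toAlgebra
  haveI : IsScalarTower R R[X] S := IsScalarTower.of_algebraMap_eq fun r => ((Polynomial.aeval a).commutes r).symm
  rw [trd_eq_T (R := R) q {(Polynomial.X : R[X])} Polynomial.adjoin_X, Set.image_singleton]
  congr 2
  simp [RingHom.algebraMap_toAlgebra]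

theorem trd_aeval₂ (a b : S) (q : PrimeSpectrum S) :
    (letI := (MvPolynomial.aeval (R := R) ![a, b]).toRingHom.toAlgebra; trd (MvPolynomial (Fin 2) R) q) =
      T (adjoin (bot' (R := R) q)
        ({algebraMap S q.asIdeal.ResidueField a, algebraMap S q.asIdeal.ResidueField b} : Set q.asIdeal.ResidueField)) := by
  letI := (MvPolynomial.aeval (R := R) ![a, b]).toRingHom.toAlgebra
  haveI : IsScalarTower R (MvPolynomial (Fin 2) R) S :=
    IsScalarTower.of_algebraMap_eq fun r => ((MvPolynomial.aeval ![a, b]).commutes r).symm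
  rw [trd_eq_T (R := R) q (Set.range MvPolynomial.X) MvPolynomial.adjoin_range_X, ← Set.range_comp]
  congr 2
  ext z
  simp [Fin.exists_fin_two, RingHom.algebraMap_toAlgebra, eq_comm]

/-- The fibre dimension bound at all points. -/
def Good (R : Type u) [CommRing R] [Algebra R S] (d : ℕ) (a : S) : Prop :=
  ∀ q : PrimeSpectrum S, T ((bot' (R := R) q)⟮algebraMap S q.asIdeal.ResidueField a⟯) ≤ d

variable [Algebra.FiniteType R S]

theorem forall_ringKrullDim_le_iff (a : S) (d : ℕ) :
    (∀ P : PrimeSpectrum R[X], letI := (Polynomial.aeval (R := R) a).toRingHom.toAlgebra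
      ringKrullDim (P.asIdeal.Fiber S) ≤ d) ↔ Good R d a := by
  letI := (Polynomial.aeval (R := R) a).toRingHom.toAlgebra
  haveI : IsScalarTower R R[X] S := IsScalarTower.of_algebraMap_eq fun r => ((Polynomial.aeval a).commutes r).symm
  haveI : Algebra.FiniteType R[X] S := Algebra.FiniteType.of_restrictScalars_finiteType R R[X] S
  constructor
  · intro h q
    rw [← trd_aeval a q]
    exact (FlatMorDim.ringKrullDim_fiber_le_iff (q.asIdeal.comap (algebraMap R[X] S)) d).1
      (h ⟨q.asIdeal.comap (algebraMap R[X] S), inferInstance⟩) q rfl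
  · intro h P
    refine (FlatMorDim.ringKrullDim_fiber_le_iff P.asIdeal d).2 fun q _ => ?_
    rw [trd_aeval a q]
    exact h q

/-- At a point where the bound fails for `a ^ n + b`. -/
theorem bad_facts {d : ℕ} {a : S} (ha : Good R d a) (n : ℕ) (b : S) (q : PrimeSpectrum S)
    (h : ¬ T ((bot' (R := R) q)⟮algebraMap S q.asIdeal.ResidueField (a ^ n + b)⟯) ≤ d) :
    (Algebra.trdeg (bot' (R := R) q) q.asIdeal.ResidueField).toNat = d + 1 ∧
      Transcendental (bot' (R := R) q) (algebraMap S q.asIdeal.ResidueField a) ∧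
      IsAlgebraic (bot' (R := R) q)
        ((algebraMap S q.asIdeal.ResidueField a) ^ n + algebraMap S q.asIdeal.ResidueField b) := by
  have hle := T_le ((bot' (R := R) q)⟮algebraMap S q.asIdeal.ResidueField (a ^ n + b)⟯)
  have h1 := ha q
  have ht : Transcendental (bot' (R := R) q) (algebraMap S q.asIdeal.ResidueField a) := fun halg => by
    rw [T_of_isAlgebraic halg] at h1
    omega
  have h2 := toNat_le_T_add_one (k := bot' (R := R) q) (algebraMap S q.asIdeal.ResidueField a)
  refine ⟨by omega, ht, ?_⟩
  by_contra hc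
  have h3 := T_add_one_le (show Transcendental (bot' (R := R) q)
    (algebraMap S q.asIdeal.ResidueField (a ^ n + b)) by rwa [map_add, map_pow])
  omega

/-- The open set where `(a, b)` has small fibres. -/
theorem exists_open_no_bad {d : ℕ} {a : S} (ha : Good R d a) (b : S) :
    ∃ O : Set (PrimeSpectrum S), IsOpen O ∧
      (∀ q ∈ O, ∀ n, T ((bot' (R := R) q)⟮algebraMap S q.asIdeal.ResidueField (a ^ n + b)⟯) ≤ d) ∧
      ∀ q ∉ O, ∃ F : MvPolynomial (Fin 2) R, MvPolynomial.aeval ![a, b] F ∈ q.asIdeal ∧
        ∃ s, F.coeff s ∉ q.asIdeal.comap (algebraMap R S) := by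
  letI := (MvPolynomial.aeval (R := R) ![a, b]).toRingHom.toAlgebra
  haveI : IsScalarTower R (MvPolynomial (Fin 2) R) S :=
    IsScalarTower.of_algebraMap_eq fun r => ((MvPolynomial.aeval ![a, b]).commutes r).symm
  haveI : Algebra.FiniteType (MvPolynomial (Fin 2) R) S := Algebra.FiniteType.of_restrictScalars_finiteType R _ S
  let B := MvPolynomial (Fin 2) R
  let O : Set (PrimeSpectrum S) := {q | ∀ q' : PrimeSpectrum S, q'.asIdeal ≤ q.asIdeal →
    q'.asIdeal.comap (algebraMap B S) = q.asIdeal.comap (algebraMap B S) → trd B q' + 1 ≤ d}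
  refine ⟨O, ?_, fun q hq n => ?_, fun q hq => ?_⟩
  · rcases d with _ | e
    · convert isOpen_empty (X := PrimeSpectrum S)
      exact Set.eq_empty_iff_forall_notMem.2 fun q hq => by simpa using hq q le_rfl rfl
    · convert isOpen_trd_le (A := B) (R := S) e using 1
      simp only [O, Nat.add_le_add_iff_right]
  · by_contra hbad
    obtain ⟨h1, ht, halg⟩ := bad_facts ha n b q hbad
    have h5 := T_pair_of_isAlgebraic (isAlgebraic_of_add halg)
    have h6 := hq q le_rfl rfl
    rw [trd_aeval₂, h5] at h6
    have h7 := toNat_le_T_add_one (k := bot' (R := R) q) (algebraMap S q.asIdeal.ResidueField a)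
    omega
  · simp only [O, Set.mem_ofPred_eq, not_forall] at hq
    obtain ⟨q', hle, heq, hd⟩ := hq
    rw [trd_aeval₂] at hd
    have hdep : ¬ AlgebraicIndependent (bot' (R := R) q')
        ![algebraMap S q'.asIdeal.ResidueField a, algebraMap S q'.asIdeal.ResidueField b] := fun hind => by
      have h1 := two_add_T_le hind
      have h2 := toNat_le_T_add_one (k := bot' (R := R) q') (algebraMap S q'.asIdeal.ResidueField a)
      have h3 := ha q'
      omega
    rw [algebraicIndependent_iff] at hdep
    push Not at hdep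
    obtain ⟨G, hG, hG0⟩ := hdep
    let p' := q'.asIdeal.comap (algebraMap R S)
    obtain ⟨r, hr⟩ := IsLocalization.exist_integer_multiples (nonZeroDivisors (R ⧸ p')) G.support G.coeff
    let G' := (r : R ⧸ p') • G
    have hmem : G' ∈ (MvPolynomial.map (algebraMap R p'.ResidueField) :
        MvPolynomial (Fin 2) R →+* MvPolynomial (Fin 2) p'.ResidueField).range := by
      refine MvPolynomial.mem_range_map_iff_coeffs_subset.2 ?_
      intro c hc
      simp only [Finset.mem_coe, MvPolynomial.mem_coeffs_iff] at hc
      obtain ⟨s, hs, rfl⟩ := hc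
      obtain ⟨z, hz⟩ := hr s (Finsupp.support_smul hs)
      obtain ⟨z, rfl⟩ := Ideal.Quotient.mk_surjective z
      exact ⟨z, hz⟩
    obtain ⟨F, hF⟩ := hmem
    have hG' : G' ≠ 0 := by
      have hr0 : algebraMap (R ⧸ p') p'.ResidueField r ≠ 0 :=
        fun h => nonZeroDivisors.ne_zero r.2 (IsFractionRing.injective (R ⧸ p') p'.ResidueField (h.trans (map_zero _).symm))
      intro h
      obtain ⟨s, hs⟩ := MvPolynomial.ne_zero_iff.1 hG0
      refine hs ?_
      have := congrArg (MvPolynomial.coeff s) h
      simpa [G', Algebra.smul_def, MvPolynomial.algebraMap_eq, hr0] using this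
    refine ⟨F, ?_, ?_⟩
    · refine hle ?_
      rw [← Ideal.algebraMap_residueField_eq_zero, ← MvPolynomial.aeval_algebraMap_apply]
      have h1 : MvPolynomial.aeval (R := bot' (R := R) q')
          ![algebraMap S q'.asIdeal.ResidueField a, algebraMap S q'.asIdeal.ResidueField b] G' = 0 := by
        rw [show G' = algebraMap (R ⧸ p') p'.ResidueField r • G from (algebraMap_smul _ _ _).symm, map_smul, hG, smul_zero]
      rw [← hF, MvPolynomial.aeval_map_algebraMap] at h1
      convert h1 using 3
      funext i
      fin_cases i <;> rfl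
    · obtain ⟨s, hs⟩ := MvPolynomial.ne_zero_iff.1 (hF.symm ▸ hG' : MvPolynomial.map (algebraMap R p'.ResidueField) F ≠ 0)
      refine ⟨s, fun hmem => hs ?_⟩
      rw [MvPolynomial.coeff_map, Ideal.algebraMap_residueField_eq_zero]
      show algebraMap R S (F.coeff s) ∈ q'.asIdeal
      have hb : algebraMap B S (MvPolynomial.C (F.coeff s)) ∈ q.asIdeal := by
        rw [← MvPolynomial.algebraMap_eq, ← IsScalarTower.algebraMap_apply]; exact hmem
      have := heq.ge (show MvPolynomial.C (F.coeff s) ∈ q.asIdeal.comap (algebraMap B S) from hb)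
      rw [Ideal.mem_comap, ← MvPolynomial.algebraMap_eq, ← IsScalarTower.algebraMap_apply] at this
      exact this

theorem exists_bound {d : ℕ} {a : S} (ha : Good R d a) (b : S) :
    ∃ n₀ : ℕ, ∀ n ≥ n₀, Good R d (a ^ n + b) := by
  obtain ⟨O, hO, hgood, hdep⟩ := exists_open_no_bad ha b
  let NoBad : Set (PrimeSpectrum S) → ℕ → Prop := fun U N => ∀ q ∈ U, ∀ n ≥ N,
    T ((bot' (R := R) q)⟮algebraMap S q.asIdeal.ResidueField (a ^ n + b)⟯) ≤ d
  have key : ∀ q : PrimeSpectrum S, ∃ (U : Set (PrimeSpectrum S)) (N : ℕ),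
      IsOpen[constructibleTopology (PrimeSpectrum S)] U ∧ q ∈ U ∧ NoBad U N := by
    intro q
    by_cases hq : q ∈ O
    · obtain ⟨_, ⟨f, rfl⟩, hqf, hfO⟩ :=
        PrimeSpectrum.isTopologicalBasis_basic_opens.exists_subset_of_mem_open hq hO
      exact ⟨_, 0, (PrimeSpectrum.isCompact_basicOpen f).isOpen_constructibleTopology_of_isOpen
        (PrimeSpectrum.basicOpen f).2, hqf, fun q' hq' n _ => hgood q' (hfO hq') n⟩
    · obtain ⟨F, hF, s, hs⟩ := hdep q hq
      let f := MvPolynomial.aeval ![a, b] F
      refine ⟨PrimeSpectrum.zeroLocus {f} ∩ (PrimeSpectrum.basicOpen (algebraMap R S (F.coeff s)) : Set _),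
        F.totalDegree + 1, ?_, ⟨by simpa using hF, hs⟩, fun q' hq' n hn => ?_⟩
      · refine (@IsOpen.inter _ (constructibleTopology (PrimeSpectrum S)) _ _ ?_ ?_)
        · refine IsCompact.isOpen_constructibleTopology_of_isClosed ?_ (PrimeSpectrum.isClosed_zeroLocus _)
          rw [← PrimeSpectrum.basicOpen_eq_zeroLocus_compl]
          exact PrimeSpectrum.isCompact_basicOpen f
        · exact (PrimeSpectrum.isCompact_basicOpen _).isOpen_constructibleTopology_of_isOpen
            (PrimeSpectrum.basicOpen _).2
      · by_contra hbad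
        obtain ⟨-, ht, halg⟩ := bad_facts ha n b q' hbad
        let k := bot' (R := R) q'
        have hF' : MvPolynomial.map (algebraMap R k) F ≠ 0 := fun h => hq'.2 (by
          have := congrArg (MvPolynomial.coeff s) h
          rw [MvPolynomial.coeff_map, MvPolynomial.coeff_zero, Ideal.algebraMap_residueField_eq_zero] at this
          exact this)
        have h0 : MvPolynomial.aeval (R := k) ![algebraMap S q'.asIdeal.ResidueField a,
            algebraMap S q'.asIdeal.ResidueField b] (MvPolynomial.map (algebraMap R k) F) = 0 := by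
          rw [MvPolynomial.aeval_map_algebraMap]
          have h1 : algebraMap S q'.asIdeal.ResidueField f = 0 :=
            Ideal.algebraMap_residueField_eq_zero.2 (by simpa using hq'.1)
          rw [← MvPolynomial.aeval_algebraMap_apply] at h1
          convert h1 using 3
          funext i
          fin_cases i <;> rfl
        have := exponent_le ht halg _ hF' h0
        have h2 : (MvPolynomial.map (algebraMap R k) F).totalDegree ≤ F.totalDegree :=
          Finset.sup_mono (MvPolynomial.support_map_subset _ _)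
        omega
  choose U N hU hqU hN using key
  haveI := compactSpace_withConstructibleTopology (X := PrimeSpectrum S)
  obtain ⟨t, ht⟩ := (isCompact_univ (X := WithConstructibleTopology (PrimeSpectrum S))).elim_finite_subcover
    (fun q => WithTopology.ofTopology ⁻¹' U q) (fun q => WithConstructibleTopology.isOpen_iff.2 (hU q))
    fun z _ => Set.mem_iUnion.2 ⟨WithTopology.ofTopology z, hqU _⟩
  refine ⟨t.sup N, fun n hn q => ?_⟩
  obtain ⟨q₀, h₀, hq₀⟩ := Set.mem_iUnion₂.1 (ht (Set.mem_univ (WithTopology.toTopology _ q)))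
  exact hN q₀ q hq₀ n ((Finset.le_sup h₀).trans hn)

end Groth.Agent.FlatMorPower
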